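import Mathlib
import Cfsg.Agent.Core.SylowOf
import Cfsg.Agent.Core.Hall
import Cfsg.Agent.Core.MinNormal
import Cfsg.Agent.Core.Coprime2
import Cfsg.Agent.S0016

/-!
# Core/AbConj: groups whose abelian subgroups of equal order are conjugate
-/

set_option autoImplicit false
set_option linter.unusedSectionVars false
set_option linter.unusedVariables false

open Subgroup
open scoped Pointwise commutatorElement

namespace Cfsg.Agent.Core.AbConj

universe u

/-- abelian subgroups of equal order are conjugate -/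
def PB (G : Type*) [Group G] : Prop :=
  ∀ A B : Subgroup G, IsMulCommutative A → IsMulCommutative B → Nat.card A = Nat.card B →
    ∃ g : G, MulAut.conj g • A = B

/-- the same modulo `N` -/
def PM {G : Type*} [Group G] (N : Subgroup G) : Prop :=
  ∀ A B : Subgroup G, N ≤ A → N ≤ B → ⁅A, A⁆ ≤ N → ⁅B, B⁆ ≤ N → Nat.card A = Nat.card B →
    ∃ g : G, MulAut.conj g • A = B

theorem pb_of_pm {G H : Type*} [Group G] [Group H] [Finite G] (f : G →* H)
    (hf : Function.Surjective f) (h : PM f.ker) : PB H := by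
  intro A B hA hB hc
  have key : ∀ C : Subgroup H, IsMulCommutative C → ⁅C.comap f, C.comap f⁆ ≤ f.ker := by
    intro C hC
    rw [commutator_le]
    intro x hx y hy
    rw [MonoidHom.mem_ker, map_commutatorElement, commutatorElement_eq_one_iff_mul_comm]
    exact comm_of_isMulCommutative hC hx hy
  have hcard : ∀ C : Subgroup H, Nat.card (C.comap f) * C.index = Nat.card G := by
    intro C
    rw [← index_comap_of_surjective C hf, card_mul_index]
  haveI : Finite H := Finite.of_surjective f hf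
  have hi : A.index = B.index := by
    have h1 := A.card_mul_index
    have h2 := B.card_mul_index
    rw [hc] at h1
    exact Nat.eq_of_mul_eq_mul_left Nat.card_pos (h1.trans h2.symm)
  obtain ⟨g, hg⟩ := h (A.comap f) (B.comap f) (ker_le_comap f A) (ker_le_comap f B) (key A hA)
    (key B hB) (by
      have h1 := hcard A
      have h2 := hcard B
      rw [hi] at h1
      exact Nat.eq_of_mul_eq_mul_right (Nat.pos_of_ne_zero index_ne_zero_of_finite)
        (h1.trans h2.symm))
  refine ⟨f g, ?_⟩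
  have := congrArg (Subgroup.map f) hg
  rwa [map_conj_smul, map_comap_eq_self_of_surjective hf, map_comap_eq_self_of_surjective hf] at this

theorem pm_bot {G : Type*} [Group G] (h : PB G) : PM (⊥ : Subgroup G) := by
  intro A B _ _ hA hB hc
  exact h A B (isMulCommutative_iff_commutator_eq_bot.2 (le_bot_iff.1 hA))
    (isMulCommutative_iff_commutator_eq_bot.2 (le_bot_iff.1 hB)) hc

/-- in a solvable group with one class of involutions, involutions whose commutator is a
2-element commute -/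
theorem inv_comm (G : Type u) [Group G] [Finite G] (hs : Group.IsSolvable G)
    (h : ∀ s t : G, orderOf s = 2 → orderOf t = 2 → IsConj s t) :
    ∀ s t : G, s ^ 2 = 1 → t ^ 2 = 1 → (∃ k : ℕ, ⁅s, t⁆ ^ 2 ^ k = 1) → ⁅s, t⁆ = 1 := by
  revert hs h
  refine induction_on_card (P := fun G _ _ => Group.IsSolvable G →
    (∀ s t : G, orderOf s = 2 → orderOf t = 2 → IsConj s t) →
    ∀ s t : G, s ^ 2 = 1 → t ^ 2 = 1 → (∃ k : ℕ, ⁅s, t⁆ ^ 2 ^ k = 1) → ⁅s, t⁆ = 1) ?_ G
  intro G _ _ ih hs h s t hs2 ht2 ⟨k, hk⟩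
  by_cases hs1 : s = 1
  · simp [hs1]
  by_cases ht1 : t = 1
  · simp [ht1]
  have hos : orderOf s = 2 := orderOf_eq_prime hs2 hs1
  have hot : orderOf t = 2 := orderOf_eq_prime ht2 ht1
  have hne : (⊤ : Subgroup G) ≠ ⊥ := fun e => hs1 (by
    have : s ∈ (⊤ : Subgroup G) := mem_top s
    rwa [e, mem_bot] at this)
  obtain ⟨E, q, hEn, hE0, -, hq, hE, -⟩ := exists_minimal_normal_elementary_le (⊤ : Subgroup G)
    inferInstance hne
  by_cases hq2 : q = 2
  · subst hq2
    obtain ⟨⟨e, he⟩, he1⟩ := ne_bot_iff_exists_ne_one.1 hE0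
    have he1' : e ≠ 1 := fun h => he1 (Subtype.ext h)
    have hoe : orderOf e = 2 := orderOf_eq_prime (hE.2 e he) he1'
    have m : ∀ x : G, orderOf x = 2 → x ∈ E := by
      intro x hx
      obtain ⟨c, hc⟩ := isConj_iff.1 (h e x hoe hx)
      rw [← hc]; exact hEn.conj_mem e he c
    exact commutatorElement_eq_one_iff_mul_comm.2
      (comm_of_isMulCommutative hE.1 (m s hos) (m t hot))
  · have hodd : Odd q := hq.odd_of_ne_two hq2
    have lift : ∀ a : G ⧸ E, orderOf a = 2 → ∃ x : G, orderOf x = 2 ∧ (x : G ⧸ E) = a := by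
      intro a ha
      obtain ⟨y, rfl⟩ := QuotientGroup.mk_surjective a
      have h2 : (y : G ⧸ E) ^ 2 = 1 := ha ▸ pow_orderOf_eq_one _
      have hy : y ^ 2 ∈ E := by
        rw [← QuotientGroup.eq_one_iff]; exact h2
      have e1 : ((y ^ q : G) : G ⧸ E) = y := by
        obtain ⟨m, rfl⟩ := hodd
        rw [QuotientGroup.mk_pow, pow_succ, pow_mul, h2, one_pow, one_mul]
      refine ⟨y ^ q, orderOf_eq_prime ?_ ?_, e1⟩
      · rw [← pow_mul, mul_comm, pow_mul]; exact hE.2 _ hy
      · intro e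
        rw [e] at e1
        rw [← e1] at ha
        simp at ha
    have := ih (G ⧸ E) (card_quotient_lt E hE0) inferInstance (fun a b ha hb => by
      obtain ⟨x, hx, rfl⟩ := lift a ha
      obtain ⟨y, hy, rfl⟩ := lift b hb
      exact (QuotientGroup.mk' E).map_isConj (h x y hx hy)) (s : G ⧸ E) (t : G ⧸ E)
      (by rw [← QuotientGroup.mk_pow, hs2]; rfl) (by rw [← QuotientGroup.mk_pow, ht2]; rfl)
      ⟨k, by
        have := congrArg (QuotientGroup.mk' E) hk
        rwa [map_pow, map_commutatorElement, map_one] at this⟩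
    have hm : ⁅s, t⁆ ∈ E := by
      rw [← QuotientGroup.eq_one_iff]
      exact (map_commutatorElement (QuotientGroup.mk' E) s t).trans this
    have d1 : orderOf ⁅s, t⁆ ∣ q := orderOf_dvd_of_pow_eq_one (hE.2 _ hm)
    have d2 : orderOf ⁅s, t⁆ ∣ 2 ^ k := orderOf_dvd_of_pow_eq_one hk
    have hc : Nat.Coprime q (2 ^ k) := Nat.Coprime.pow_right k (Nat.coprime_two_right.2 hodd)
    exact orderOf_eq_one_iff.1 (Nat.eq_one_of_dvd_coprimes hc d1 d2)

theorem quat_small (n : ℕ)
    (h : ⁅(QuaternionGroup.xa 0 : QuaternionGroup (2 ^ n)), (QuaternionGroup.xa 1 : QuaternionGroup (2 ^ n))⁆ ^ 2 = 1) :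
    n ≤ 1 := by
  have e : ⁅(QuaternionGroup.xa 0 : QuaternionGroup (2 ^ n)), (QuaternionGroup.xa 1 : QuaternionGroup (2 ^ n))⁆
      = QuaternionGroup.a 1 ^ 2 := by
    rw [commutatorElement_def, mul_inv_eq_iff_eq_mul, mul_inv_eq_iff_eq_mul]
    simp only [QuaternionGroup.a_one_pow, QuaternionGroup.xa_mul_xa, QuaternionGroup.a_mul_xa]
    congr 1
    push_cast
    ring
  rw [e, ← pow_mul] at h
  have := orderOf_dvd_of_pow_eq_one h
  rw [QuaternionGroup.orderOf_a_one] at this
  have h2 : 2 ^ n ∣ 2 ^ 1 := Nat.dvd_of_mul_dvd_mul_left (k := 2) (by norm_num) this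
  exact (Nat.pow_dvd_pow_iff_le_right (by norm_num)).1 h2

section step

variable {G : Type u} [Group G] [Finite G] {p : ℕ} [hp : Fact p.Prime] {N : Subgroup G}

theorem mem_of_pow (hB : PB G) [hN : N.Normal] (hN0 : N ≠ ⊥) (hE : IsElementaryAbelian p N)
    {x : G} (hx : x ^ p = 1) : x ∈ N := by
  by_cases h1 : x = 1
  · rw [h1]; exact N.one_mem
  obtain ⟨⟨e, he⟩, he1⟩ := ne_bot_iff_exists_ne_one.1 hN0
  have he1' : e ≠ 1 := fun h => he1 (Subtype.ext h)
  obtain ⟨g, hg⟩ := hB (zpowers e) (zpowers x) inferInstance inferInstance (by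
    rw [Nat.card_zpowers, Nat.card_zpowers, orderOf_eq_prime hx h1,
      orderOf_eq_prime (hE.2 e he) he1'])
  have : MulAut.conj g • zpowers e ≤ N :=
    conj_smul_le_iff.2 fun h hh => hN.conj_mem h ((zpowers_le.2 he) hh) g
  exact this (hg ▸ mem_zpowers x)

/-- the decomposition of a subgroup that is abelian modulo `N` -/
theorem decomp [hN : N.Normal] (hE : IsElementaryAbelian p N) {A : Subgroup G} (hNA : N ≤ A)
    (hA : ⁅A, A⁆ ≤ N) : ∃ S K : Subgroup G, IsSylowOf p S A ∧ N ≤ S ∧ K ≤ A ∧ S ⊔ K = A ∧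
      Nat.card S * Nat.card K = Nat.card A ∧ (Nat.card S).Coprime (Nat.card K) ∧
      IsMulCommutative K := by
  obtain ⟨S, hS, hNS⟩ := exists_isSylowOf_ge (IsElementaryAbelian.isPGroup hE) hNA
  have hn : A ≤ normalizer (S : Set G) := by
    intro a ha
    apply mem_normalizer_fintype
    intro s hs
    have : a * s * a⁻¹ = ⁅a, s⁆ * s := by rw [commutatorElement_def]; group
    rw [this]
    exact S.mul_mem (hNS (hA (commutator_mem_commutator ha (hS.le hs)))) hs
  obtain ⟨K, hKA, hd, hsup, hc⟩ := exists_complement_in S A hS.le hn hS.coprime_relIndex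
  refine ⟨S, K, hS, hNS, hKA, hsup, by rw [hc, card_mul_relIndex hS.le], by
    rw [hc]; exact hS.coprime_relIndex, ?_⟩
  rw [isMulCommutative_iff_commutator_eq_bot, eq_bot_iff, ← hd.eq_bot]
  exact le_inf ((commutator_mono hKA hKA).trans (hA.trans hNS))
    (commutator_le_of_le_normalizer le_normalizer)

theorem exists_gen (hB : PB G) [hN : N.Normal] (hN0 : N ≠ ⊥) (hE : IsElementaryAbelian p N)
    {S : Subgroup G} (hS : IsPGroup p S) (hne : ¬ S ≤ N) :
    ∃ a ∈ S, zpowers (a ^ p) = N ∧ Nat.card N = p := by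
  classical
  obtain ⟨x, hxS, hxN⟩ := SetLike.not_le_iff_exists.1 hne
  have hex : ∃ k : ℕ, x ^ p ^ k ∈ N := by
    obtain ⟨k, hk⟩ := hS ⟨x, hxS⟩
    exact ⟨k, by
      have : x ^ p ^ k = 1 := congrArg Subtype.val hk
      rw [this]; exact N.one_mem⟩
  have hk := Nat.find_spec hex
  have hk0 : Nat.find hex ≠ 0 := fun e => hxN (by rwa [e, pow_zero, pow_one] at hk)
  obtain ⟨j, hj⟩ := Nat.exists_eq_succ_of_ne_zero hk0
  have hj1 : x ^ p ^ j ∉ N := Nat.find_min hex (by omega)
  set a := x ^ p ^ j with ha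
  have hap : a ^ p ∈ N := by rw [ha, ← pow_mul, ← pow_succ]; rwa [hj] at hk
  have hap1 : a ^ p ≠ 1 := fun e => hj1 (mem_of_pow hB hN0 hE e)
  have hoa : orderOf a = p ^ 2 := by
    apply orderOf_eq_prime_pow
    · rwa [pow_one]
    · rw [pow_succ, pow_one, pow_mul]; exact hE.2 _ hap
  have hcz : Nat.card (zpowers (a ^ p)) = p := by
    rw [Nat.card_zpowers, orderOf_eq_prime (hE.2 _ hap) hap1]
  obtain ⟨m, hm⟩ := IsPGroup.iff_card.1 (IsElementaryAbelian.isPGroup hE)
  have hm2 : m < 2 := by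
    by_contra h2
    obtain ⟨K, hK⟩ := Sylow.exists_subgroup_card_pow_prime (G := N) p (n := 2)
      (hm ▸ pow_dvd_pow p (by omega))
    obtain ⟨g, hg⟩ := hB (K.map N.subtype) (zpowers a)
      (isMulCommutative_of_le hE.1 (map_subtype_le K)) inferInstance
      (by rw [card_map_subtype, hK, Nat.card_zpowers, hoa])
    have : MulAut.conj g • K.map N.subtype ≤ N :=
      conj_smul_le_iff.2 fun h hh => hN.conj_mem h (map_subtype_le K hh) g
    exact hj1 (this (hg ▸ mem_zpowers a))
  have hle : Nat.card N ≤ p := by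
    rw [hm]
    calc p ^ m ≤ p ^ 1 := Nat.pow_le_pow_right hp.out.pos (by omega)
      _ = p := pow_one p
  have he : zpowers (a ^ p) = N := eq_of_le_of_card_le (zpowers_le.2 hap) (hcz.symm ▸ hle)
  exact ⟨a, S.pow_mem hxS _, he, he ▸ hcz⟩

theorem cyc_or (hB : PB G) [hN : N.Normal] (hN0 : N ≠ ⊥) (hE : IsElementaryAbelian p N)
    (hc : Nat.card N = p) {S : Subgroup G} (hS : IsPGroup p S) :
    IsCyclic S ∨ (p = 2 ∧ ∃ n : ℕ, Nonempty (S ≃* QuaternionGroup (2 ^ n))) := by
  apply Cfsg.Agent.S0016.result p hS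
  have key : ∀ H : Subgroup S, Nat.card H = p → H.map S.subtype = N := by
    intro H hH
    apply eq_of_le_of_card_le
    · rintro _ ⟨y, hy, rfl⟩
      apply mem_of_pow hB hN0 hE
      have : (⟨y, hy⟩ : H) ^ Nat.card H = 1 := pow_card_eq_one'
      rw [hH] at this
      exact congrArg (fun z : H => ((z : S) : G)) this
    · rw [card_map_subtype, hH, hc]
  intro H K hH hK
  exact map_injective S.subtype_injective ((key H hH).trans (key K hK).symm)

theorem cent_of [hN : N.Normal] (hE : IsElementaryAbelian p N) {A K S : Subgroup G}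
    (hA : ⁅A, A⁆ ≤ N) {a : G} (ha : a ∈ A) (he : zpowers (a ^ p) = N) (hKA : K ≤ A) (hNS : N ≤ S)
    (hc : (Nat.card S).Coprime (Nat.card K)) : K ≤ centralizer (A : Set G) := by
  apply le_centralizer_of_commutator_le_of_centralizes K A N (coprime_of_le_right hc.symm hNS)
    _ ((commutator_mono le_rfl hKA).trans hA)
  intro b hb
  rw [← he, zpowers_eq_closure, centralizer_closure, mem_centralizer_singleton_iff]
  have hn : ⁅b, a⁆ ∈ N := hA (commutator_mem_commutator (hKA hb) ha)
  have hca : Commute ⁅b, a⁆ a := by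
    rw [← he] at hn
    obtain ⟨k, hk⟩ := mem_zpowers_iff.1 hn
    rw [← hk]
    exact ((Commute.refl a).pow_left p).zpow_left k
  have e1 : b * a * b⁻¹ = ⁅b, a⁆ * a := by rw [commutatorElement_def]; group
  have e2 : b * a ^ p * b⁻¹ = a ^ p := by
    rw [← conj_pow, e1, hca.mul_pow, hE.2 _ hn, one_mul]
  rw [mul_inv_eq_iff_eq_mul] at e2
  exact e2

theorem sylow_small (hB : PB G) (hs : Group.IsSolvable G) [hN : N.Normal] (hN0 : N ≠ ⊥)
    (hE : IsElementaryAbelian 2 N) (hc : Nat.card N = 2) {S : Subgroup G} (hS : IsPGroup 2 S)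
    {n : ℕ} (e : S ≃* QuaternionGroup (2 ^ n)) : n ≤ 1 := by
  apply quat_small
  have hsq : ∀ y : G, y ^ 4 = 1 → (y : G ⧸ N) ^ 2 = 1 := by
    intro y hy
    rw [← QuotientGroup.mk_pow, QuotientGroup.eq_one_iff]
    apply mem_of_pow hB hN0 hE
    rw [← pow_mul]; exact hy
  have h4 : ∀ i, ((e.symm (QuaternionGroup.xa i) : S) : G) ^ 4 = 1 := by
    intro i
    have : (e.symm (QuaternionGroup.xa i)) ^ 4 = 1 := by
      rw [← map_pow, QuaternionGroup.xa_pow_four, map_one]
    exact congrArg Subtype.val this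
  have lift : ∀ a : G ⧸ N, orderOf a = 2 → ∃ x : G, orderOf x = 4 ∧ (x : G ⧸ N) = a := by
    intro a ha
    obtain ⟨y, rfl⟩ := QuotientGroup.mk_surjective a
    have h2 : (y : G ⧸ N) ^ 2 = 1 := ha ▸ pow_orderOf_eq_one _
    have hy : y ^ 2 ∈ N := by
      rw [← QuotientGroup.eq_one_iff]; exact h2
    refine ⟨y, orderOf_eq_prime_pow (p := 2) (n := 1) ?_ ?_, rfl⟩
    · intro e
      have : (y : G ⧸ N) = 1 := (QuotientGroup.eq_one_iff y).2 (mem_of_pow hB hN0 hE e)
      rw [this] at ha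
      simp at ha
    · exact (pow_mul y 2 2).trans (hE.2 _ hy)
  have key := inv_comm (G ⧸ N) inferInstance (fun a b ha hb => by
      obtain ⟨x, hx, rfl⟩ := lift a ha
      obtain ⟨y, hy, rfl⟩ := lift b hb
      obtain ⟨g, hg⟩ := hB (zpowers x) (zpowers y) inferInstance inferInstance
        (by rw [Nat.card_zpowers, Nat.card_zpowers, hx, hy])
      have hm : g * x * g⁻¹ ∈ zpowers y := (conj_smul_le_iff.1 hg.le) x (mem_zpowers x)
      have hm' : ((g * x * g⁻¹ : G) : G ⧸ N) ∈ zpowers (y : G ⧸ N) := by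
        obtain ⟨k, hk⟩ := mem_zpowers_iff.1 hm
        exact ⟨k, by rw [← hk]; rfl⟩
      have hne : ((g * x * g⁻¹ : G) : G ⧸ N) ≠ 1 := by
        intro e
        have : (g : G ⧸ N) * x * (g : G ⧸ N)⁻¹ = 1 := e
        rw [conj_eq_one_iff] at this
        rw [this] at ha
        simp at ha
      have hcz : Nat.card (zpowers (y : G ⧸ N)) = 2 := by rw [Nat.card_zpowers, hb]
      have hy1 : (y : G ⧸ N) ≠ 1 := by
        intro e; rw [e] at hb; simp at hb
      obtain ⟨w, -, hw⟩ := (Nat.card_eq_two_iff' (1 : zpowers (y : G ⧸ N))).1 hcz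
      have e1 := hw ⟨_, hm'⟩ (fun e => hne (congrArg Subtype.val e))
      have e2 := hw ⟨_, mem_zpowers _⟩ (fun e => hy1 (congrArg Subtype.val e))
      have e3 : ((g * x * g⁻¹ : G) : G ⧸ N) = y := congrArg Subtype.val (e1.trans e2.symm)
      exact isConj_iff.2 ⟨g, e3⟩)
    _ _ (hsq _ (h4 0)) (hsq _ (h4 1)) (by
      obtain ⟨k, hk⟩ := hS ⁅e.symm (QuaternionGroup.xa 0), e.symm (QuaternionGroup.xa 1)⁆
      refine ⟨k, ?_⟩
      have := congrArg ((QuotientGroup.mk' N).comp S.subtype) hk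
      rwa [map_pow, map_commutatorElement, map_one] at this)
  have hm : ((⁅e.symm (QuaternionGroup.xa 0), e.symm (QuaternionGroup.xa 1)⁆ : S) : G) ∈ N := by
    rw [← QuotientGroup.eq_one_iff]
    exact (map_commutatorElement ((QuotientGroup.mk' N).comp S.subtype) _ _).trans key
  have h2 : ⁅e.symm (QuaternionGroup.xa 0), e.symm (QuaternionGroup.xa 1)⁆ ^ 2 = 1 :=
    Subtype.ext (hE.2 _ hm)
  have := congrArg e h2
  rwa [map_pow, map_commutatorElement, e.apply_symm_apply, e.apply_symm_apply, map_one] at this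

theorem comm_of_parts {A S K : Subgroup G} (hsup : S ⊔ K = A) (hS : IsMulCommutative S)
    (hK : K ≤ centralizer (A : Set G)) : IsMulCommutative A := by
  rw [← le_centralizer_iff_isMulCommutative]
  have hSA : S ≤ A := hsup ▸ le_sup_left
  have : S ≤ centralizer (A : Set G) := by
    rw [le_centralizer_iff]
    conv_lhs => rw [← hsup]
    exact sup_le (le_centralizer_iff_isMulCommutative.2 hS)
      (hK.trans (centralizer_le (SetLike.coe_subset_coe.2 hSA)))
  conv_lhs => rw [← hsup]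
  exact sup_le this hK

theorem step (hB : PB G) [hN : N.Normal] (hN0 : N ≠ ⊥) (hE : IsElementaryAbelian p N)
    (h2 : p ≠ 2 ∨ Group.IsSolvable G) : PM N := by
  intro A B hNA hNB hA hB' hc
  obtain ⟨S, K, hS, hNS, hKA, hsup, hcard, hcop, hK⟩ := decomp hE hNA hA
  obtain ⟨T, L, hT, hNT, hLB, hsup', hcard', hcop', hL⟩ := decomp hE hNB hB'
  have hST : Nat.card S = Nat.card T := by rw [hS.card_eq_pow, hT.card_eq_pow, hc]
  have hKL : Nat.card K = Nat.card L := by
    rw [hST, hc, ← hcard'] at hcard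
    exact Nat.eq_of_mul_eq_mul_left Nat.card_pos hcard
  obtain ⟨g, hg⟩ := hB K L hK hL hKL
  by_cases hSN : S ≤ N
  · have e1 : S = N := le_antisymm hSN hNS
    have e2 : N = T := eq_of_le_of_card_le hNT (by rw [← hST, e1])
    refine ⟨g, ?_⟩
    rw [← hsup, ← hsup', smul_sup, hg, e1, ← e2,
      conj_smul_eq_iff_mem_normalizer.2 (le_normalizer_of_normal (mem_top g))]
  have hTN : ¬ T ≤ N := fun h => hSN (by
    have e2 : T = N := le_antisymm h hNT
    exact (eq_of_le_of_card_le hNS (by rw [hST, e2])).ge)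
  obtain ⟨a, haS, ha, hNc⟩ := exists_gen hB hN0 hE hS.isPGroup hSN
  obtain ⟨b, hbT, hb, -⟩ := exists_gen hB hN0 hE hT.isPGroup hTN
  have cK := cent_of hE hA (hS.le haS) ha hKA hNS hcop
  have cL := cent_of hE hB' (hT.le hbT) hb hLB hNT hcop'
  by_cases hcomm : IsMulCommutative S ∧ IsMulCommutative T
  · exact hB A B (comm_of_parts hsup hcomm.1 cK) (comm_of_parts hsup' hcomm.2 cL) hc
  -- both are Sylow in G
  have big : ∀ U : Subgroup G, IsPGroup p U → ¬ IsMulCommutative U → IsSylowOf p U ⊤ := by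
    intro U hU hUc
    obtain ⟨P, hP, hUP⟩ := exists_isSylowOf_ge hU (le_top : U ≤ ⊤)
    rcases cyc_or hB hN0 hE hNc hP.isPGroup with h | ⟨rfl, n, ⟨e⟩⟩
    · exact absurd (isMulCommutative_of_le h.isMulCommutative hUP) hUc
    have hs : Group.IsSolvable G := h2.resolve_left (fun h => h rfl)
    have hn := sylow_small hB hs hN0 hE hNc hP.isPGroup e
    have hPc : Nat.card P ≤ 8 := by
      rw [Nat.card_congr e.toEquiv, Nat.card_eq_fintype_card, QuaternionGroup.card]
      interval_cases n <;> norm_num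
    apply hP.of_card_le hU le_top
    obtain ⟨m, hm⟩ := IsPGroup.iff_card.1 hU
    by_contra hlt
    apply hUc
    have hm3 : m < 3 := by
      by_contra h3
      have : 2 ^ 3 ≤ 2 ^ m := Nat.pow_le_pow_right (by norm_num) (by omega)
      omega
    interval_cases m
    · haveI : Subsingleton U := (Nat.card_eq_one_iff_unique.1 hm).1
      exact ⟨⟨fun x y => Subsingleton.elim _ _⟩⟩
    · exact (isCyclic_of_prime_card (p := 2) (by simpa using hm)).isMulCommutative
    · exact ⟨⟨(IsPGroup.commGroupOfCardEqPrimeSq hm).mul_comm⟩⟩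
  have hboth : IsSylowOf p S ⊤ ∧ IsSylowOf p T ⊤ := by
    by_cases h : IsMulCommutative S
    · have h1 := big T hT.isPGroup (fun h' => hcomm ⟨h, h'⟩)
      exact ⟨h1.of_card_le hS.isPGroup le_top hST.ge, h1⟩
    · have h1 := big S hS.isPGroup h
      exact ⟨h1, h1.of_card_le hT.isPGroup le_top hST.le⟩
  have hS1 : IsSylowOf p (MulAut.conj g • S) ⊤ :=
    hboth.1.conj_of_mem_normalizer (le_normalizer (mem_top g))
  have c1 : MulAut.conj g • S ≤ centralizer (L : Set G) := by
    rw [conj_smul_le_iff]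
    intro s hs
    rw [mem_centralizer_iff]
    intro l hl
    have hl' : g⁻¹ * l * g ∈ K := by rw [← mem_conj_smul_iff, hg]; exact hl
    have := mem_centralizer_iff.1 (cK hl') s (hS.le hs)
    calc l * (g * s * g⁻¹) = g * ((g⁻¹ * l * g) * s) * g⁻¹ := by group
      _ = g * (s * (g⁻¹ * l * g)) * g⁻¹ := by rw [this]
      _ = _ := by group
  have c2 : T ≤ centralizer (L : Set G) :=
    le_centralizer_iff.1 (cL.trans (centralizer_le (SetLike.coe_subset_coe.2 hT.le)))
  obtain ⟨c, hcL, hce⟩ := (hS1.of_le c1 le_top).exists_conj_eq (hboth.2.of_le c2 le_top)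
  refine ⟨c * g, ?_⟩
  rw [← hsup, ← hsup', smul_sup, map_mul, mul_smul, mul_smul, hce, hg,
    conj_smul_eq_iff_mem_normalizer.2 (centralizer_le_normalizer _ hcL)]

end step

theorem main (G : Type u) [Group G] [Finite G] : PB G → ∀ (H : Type u) [Group H] (f : G →* H),
    Function.Surjective f → Group.IsSolvable f.ker →
    (Odd (Nat.card f.ker) ∨ Group.IsSolvable G) → PB H := by
  refine induction_on_card (P := fun G _ _ => PB G → ∀ (H : Type u) [Group H] (f : G →* H),
    Function.Surjective f → Group.IsSolvable f.ker →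
    (Odd (Nat.card f.ker) ∨ Group.IsSolvable G) → PB H) ?_ G
  intro G _ _ ih hB H _ f hf hs h2
  by_cases h0 : f.ker = ⊥
  · exact pb_of_pm f hf (h0 ▸ pm_bot hB)
  obtain ⟨N, p, hN, hN0, hle, hp, hE, -⟩ := exists_minimal_normal_elementary_le f.ker hs h0
  haveI : Fact p.Prime := ⟨hp⟩
  have hq : PB (G ⧸ N) := by
    apply pb_of_pm (QuotientGroup.mk' N) (QuotientGroup.mk'_surjective N)
    rw [QuotientGroup.ker_mk']
    apply step hB hN0 hE
    refine h2.imp_left fun ho => ?_
    rintro rfl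
    have d := (prime_dvd_card_of_isPGroup (IsElementaryAbelian.isPGroup hE) hN0).trans
      (card_dvd_of_le hle)
    exact (Nat.not_even_iff_odd.2 ho) (even_iff_two_dvd.2 d)
  let f' : G ⧸ N →* H := QuotientGroup.lift N f hle
  have hk : f'.ker = f.ker.map (QuotientGroup.mk' N) := QuotientGroup.ker_lift _ _ _
  apply ih (G ⧸ N) (card_quotient_lt N hN0) hq H f'
  · intro y
    obtain ⟨x, rfl⟩ := hf y
    exact ⟨x, rfl⟩
  · rw [hk]; exact solvable_map hs _
  · refine h2.imp (fun ho => ?_) (fun h => by haveI := h; infer_instance)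
    rw [hk]
    exact ho.of_dvd_nat (card_map_dvd _ _)

theorem quot {G : Type u} [Group G] [Finite G] (hB : ∀ A B : Subgroup G, IsMulCommutative ↥A → IsMulCommutative ↥B → Nat.card ↥A = Nat.card ↥B → ∃ g : G, B = A.map (MulAut.conj g).toMonoidHom) (M : Subgroup G) [M.Normal] (hs : Group.IsSolvable M)
    (h : Odd (Nat.card M) ∨ Group.IsSolvable G) :
    ∀ A B : Subgroup (G ⧸ M), IsMulCommutative ↥A → IsMulCommutative ↥B → Nat.card ↥A = Nat.card ↥B →
      ∃ g : G ⧸ M, B = A.map (MulAut.conj g).toMonoidHom := by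
  have := main G (fun A B h1 h2 h3 => (hB A B h1 h2 h3).imp fun g hg => hg.symm) (G ⧸ M)
    (QuotientGroup.mk' M) (QuotientGroup.mk'_surjective M) (by rwa [QuotientGroup.ker_mk'])
    (by rwa [QuotientGroup.ker_mk'])
  exact fun A B h1 h2 h3 => (this A B h1 h2 h3).imp fun g hg => hg.symm

end Cfsg.Agent.Core.AbConj
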